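import Mathlib

set_option autoImplicit false

namespace Cfsg.Agent.Helper67.ThreeOrbit

open Polynomial

theorem orderOf_unitOfCoprime_eq (p q : ℕ) (h : p.Coprime q) :
    orderOf (ZMod.unitOfCoprime p h : (ZMod q)ˣ) = orderOf (p : ZMod q) := by
  rw [← orderOf_units, ZMod.coe_unitOfCoprime]

theorem cyclotomic_irreducible_of_orderOf (p q : ℕ) [hp : Fact p.Prime] [hq : Fact q.Prime]
    (hpq : p ≠ q) (hord : orderOf (p : ZMod q) = q - 1) :
    Irreducible (cyclotomic q (ZMod p)) := by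
  have hndvd : ¬ p ∣ q := fun h => hpq ((Nat.prime_dvd_prime_iff_eq hp.1 hq.1).1 h)
  apply ZMod.irreducible_of_dvd_cyclotomic_of_natDegree hndvd dvd_rfl
  rw [natDegree_cyclotomic, Nat.totient_prime hq.1, orderOf_unitOfCoprime_eq, hord]

theorem natDegree_of_irreducible_dvd_cyclotomic (p q : ℕ) [hp : Fact p.Prime] [hq : Fact q.Prime]
    (hpq : p ≠ q) (h : (ZMod p)[X]) (hirr : Irreducible h) (hdvd : h ∣ cyclotomic q (ZMod p)) :
    h.natDegree = orderOf (p : ZMod q) := by
  have hcop : p.Coprime q := (Nat.coprime_primes hp.1 hq.1).2 hpq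
  have := Polynomial.natDegree_of_dvd_cyclotomic_of_irreducible (K := ZMod p) (p := p) (f := 1)
    (n := q) (by simp) hcop hdvd hirr
  rw [this]
  simp only [pow_one]
  exact orderOf_unitOfCoprime_eq p q _

theorem exists_pow_eq_of_orderOf (p q : ℕ) [hp : Fact p.Prime] [hq : Fact q.Prime]
    (hpq : p ≠ q) (hord : orderOf (p : ZMod q) = q - 1) (k : ℕ) (hk : ¬ q ∣ k) :
    ∃ j : ℕ, ((p : ZMod q)) ^ j = (k : ZMod q) := by
  have hcop : p.Coprime q := (Nat.coprime_primes hp.1 hq.1).2 hpq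
  have hkcop : k.Coprime q := ((Nat.Prime.coprime_iff_not_dvd hq.1).2 hk).symm
  set u : (ZMod q)ˣ := ZMod.unitOfCoprime p hcop with hu
  have hu_ord : orderOf u = q - 1 := by rw [hu, orderOf_unitOfCoprime_eq, hord]
  have hcard : Nat.card (ZMod q)ˣ = q - 1 := by
    rw [Nat.card_eq_fintype_card, ZMod.card_units_eq_totient, Nat.totient_prime hq.1]
  have htop : Subgroup.zpowers u = ⊤ := by
    apply Subgroup.eq_top_of_card_eq
    rw [Nat.card_zpowers, hu_ord, hcard]
  have hmem : ZMod.unitOfCoprime k hkcop ∈ Subgroup.zpowers u := by rw [htop]; trivial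
  rw [← mem_powers_iff_mem_zpowers] at hmem
  obtain ⟨j, hj⟩ := hmem
  refine ⟨j, ?_⟩
  have := congrArg (fun w : (ZMod q)ˣ => (w : ZMod q)) hj
  simpa [hu] using this

end Cfsg.Agent.Helper67.ThreeOrbit
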