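import Mathlib

set_option autoImplicit false

namespace Cfsg.Agent.Helper67.ThreeOrbit

open Module

/-- the general linear group is transitive on nonzero vectors -/
theorem exists_linearEquiv_apply_eq {K V : Type*} [Field K] [AddCommGroup V] [Module K V]
    (y y' : V) (hy : y ≠ 0) (hy' : y' ≠ 0) : ∃ g : V ≃ₗ[K] V, g y = y' := by
  let f : (Submodule.span K {y}) ≃ₗ[K] (Submodule.span K {y'}) :=
    (LinearEquiv.toSpanNonzeroSingleton K V y hy).symm ≪≫ₗ
      (LinearEquiv.toSpanNonzeroSingleton K V y' hy')
  obtain ⟨g, hg⟩ := Submodule.exists_linearEquiv_restrict_eq f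
  refine ⟨g, ?_⟩
  have h1 := hg ⟨y, Submodule.mem_span_singleton_self y⟩
  have h2 : f ⟨y, Submodule.mem_span_singleton_self y⟩ =
      ⟨y', Submodule.mem_span_singleton_self y'⟩ := by
    change (LinearEquiv.toSpanNonzeroSingleton K V y' hy')
      ((LinearEquiv.toSpanNonzeroSingleton K V y hy).symm ⟨y, _⟩) = _
    rw [← LinearEquiv.toSpanNonzeroSingleton_one K V y hy, LinearEquiv.symm_apply_apply,
      LinearEquiv.toSpanNonzeroSingleton_one]
  rw [h2] at h1
  exact h1.symm

/-- a `σ`-semilinear bijection of a finite vector space, for any field endomorphism `σ` -/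
theorem exists_semilinear_equiv {K V : Type*} [Field K] [AddCommGroup V] [Module K V] [Finite V]
    (σ : K →+* K) : ∃ T : V ≃+ V, ∀ (c : K) (v : V), T (c • v) = σ c • T v := by
  classical
  haveI : Module.Finite K V := Module.Finite.of_finite
  let b := Module.finBasis K V
  let T₀ : V →+ V :=
    { toFun := fun v => ∑ i, σ (b.repr v i) • b i
      map_zero' := by simp
      map_add' := fun v w => by
        simp only [map_add, Finsupp.coe_add, Pi.add_apply, add_smul, Finset.sum_add_distrib] }
  have hsemi : ∀ (c : K) (v : V), T₀ (c • v) = σ c • T₀ v := by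
    intro c v
    change ∑ i, σ (b.repr (c • v) i) • b i = σ c • ∑ i, σ (b.repr v i) • b i
    rw [Finset.smul_sum]
    refine Finset.sum_congr rfl fun i _ => ?_
    simp only [map_smul, Finsupp.coe_smul, Pi.smul_apply, smul_eq_mul, map_mul, mul_smul]
  have hinj : Function.Injective T₀ := by
    rw [injective_iff_map_eq_zero]
    intro v hv
    have hv' : ∑ i, σ (b.repr v i) • b i = 0 := hv
    have hli := Fintype.linearIndependent_iff.1 b.linearIndependent _ hv'
    rw [← b.forall_coord_eq_zero_iff]
    intro i
    have := hli i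
    rw [map_eq_zero_iff σ σ.injective] at this
    exact this
  exact ⟨AddEquiv.ofBijective T₀ ⟨hinj, Finite.surjective_of_injective hinj⟩, hsemi⟩

end Cfsg.Agent.Helper67.ThreeOrbit
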