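import Mathlib
import Cfsg.Agent.Lib.Helper67.ThreeOrbit.LinAlg
import Cfsg.Agent.Lib.Helper67.ThreeOrbit.Cyclo

set_option autoImplicit false

namespace Cfsg.Agent.Helper67.ThreeOrbit

open Polynomial

/-- Module-theoretic core of the backward direction: if `φ` is a fixed-point-free automorphism of
order `q` of a finite elementary abelian `p`-group `V` and `p` is a primitive root mod `q`, then
the centralizer of `φ` in `Aut V` is transitive on nonzero vectors, and `φ` is conjugate in
`Aut V` to each of its nontrivial powers. -/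
theorem mod_transitive_aux {V : Type*} [AddCommGroup V] [Finite V] (p q : ℕ) [hp : Fact p.Prime]
    [hq : Fact q.Prime] [Module (ZMod p) V] (hpq : p ≠ q) (φ : V ≃+ V)
    (hφq : ∀ v, φ^[q] v = v) (hfpf : ∀ v, φ v = v → v = 0)
    (hord : orderOf (p : ZMod q) = q - 1) :
    (∀ y y' : V, y ≠ 0 → y' ≠ 0 → ∃ T : V ≃+ V, (∀ v, T (φ v) = φ (T v)) ∧ T y = y') ∧
    (∀ k : ℕ, ¬ q ∣ k → ∃ T : V ≃+ V, ∀ v, T (φ v) = φ^[k] (T v)) := by
  classical
  let f : Module.End (ZMod p) V := φ.toAddMonoidHom.toZModLinearMap p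
  have hf : ∀ v, f v = φ v := fun v => rfl
  have hfpow : ∀ (n : ℕ) v, (f ^ n) v = φ^[n] v := by
    intro n v
    rw [Module.End.pow_apply]
    rfl
  have hfq : f ^ q = 1 := LinearMap.ext fun v => by rw [hfpow, hφq]; rfl
  have hcyc : aeval f (cyclotomic q (ZMod p)) = 0 := by
    have h1 : aeval f ((X - 1) * cyclotomic q (ZMod p)) = 0 := by
      rw [mul_comm, cyclotomic_prime_mul_X_sub_one]
      simp [hfq]
    apply LinearMap.ext
    intro v
    have h2 : (f - 1) (aeval f (cyclotomic q (ZMod p)) v) = 0 := by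
      have := congrArg (fun g : Module.End (ZMod p) V => g v) h1
      simpa [map_mul] using this
    have h3 : φ (aeval f (cyclotomic q (ZMod p)) v) = aeval f (cyclotomic q (ZMod p)) v := by
      rw [← hf]
      have : (f - 1) (aeval f (cyclotomic q (ZMod p)) v) =
          f (aeval f (cyclotomic q (ZMod p)) v) - aeval f (cyclotomic q (ZMod p)) v := rfl
      rw [this, sub_eq_zero] at h2
      exact h2
    simpa using hfpf _ h3
  have : Fact (Irreducible (cyclotomic q (ZMod p))) :=
    ⟨cyclotomic_irreducible_of_orderOf p q hpq hord⟩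
  let K := AdjoinRoot (cyclotomic q (ZMod p))
  let ρ : K →+* Module.End (ZMod p) V :=
    Ideal.Quotient.lift (Ideal.span {cyclotomic q (ZMod p)}) (aeval f).toRingHom (by
      intro a ha
      obtain ⟨c, rfl⟩ := Ideal.mem_span_singleton.1 ha
      simp [hcyc])
  have hρroot : ρ (AdjoinRoot.root (cyclotomic q (ZMod p))) = f := by
    change Ideal.Quotient.lift _ _ _ (Ideal.Quotient.mk _ X) = f
    rw [Ideal.Quotient.lift_mk]
    simp
  letI : Module K V := Module.compHom V ρ
  have hroot : ∀ v, (AdjoinRoot.root (cyclotomic q (ZMod p)) : K) • v = φ v := by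
    intro v
    change ρ (AdjoinRoot.root _) v = _
    rw [hρroot, hf]
  have hrootpow : ∀ (n : ℕ) v, ((AdjoinRoot.root (cyclotomic q (ZMod p)) : K) ^ n) • v =
      φ^[n] v := by
    intro n
    induction n with
    | zero => intro v; simp
    | succ n ih =>
      intro v
      rw [pow_succ', mul_smul, ih, hroot, Function.iterate_succ_apply']
  constructor
  · intro y y' hy hy'
    obtain ⟨g, hg⟩ := exists_linearEquiv_apply_eq (K := K) y y' hy hy'
    refine ⟨g.toAddEquiv, ?_, hg⟩
    intro v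
    change g (φ v) = φ (g v)
    rw [← hroot, ← hroot, map_smul]
  · intro k hk
    obtain ⟨j, hj⟩ := exists_pow_eq_of_orderOf p q hpq hord k hk
    have hmod : p ^ j % q = k % q := by
      rw [← ZMod.natCast_eq_natCast_iff']
      push_cast
      exact hj
    have : CharP K p := by
      have : CharP (ZMod p) p := inferInstance
      exact charP_of_injective_algebraMap (algebraMap (ZMod p) K).injective p
    obtain ⟨T, hT⟩ := exists_semilinear_equiv (K := K) (V := V) (iterateFrobenius K p j)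
    refine ⟨T, ?_⟩
    intro v
    rw [← hroot, hT, iterateFrobenius_def, hrootpow, ← hfpow, ← hfpow,
      pow_eq_pow_mod (p ^ j) hfq, pow_eq_pow_mod k hfq, hmod]

theorem mod_transitive {V : Type*} [AddCommGroup V] [Finite V] (p q : ℕ) [hp : Fact p.Prime]
    [hq : Fact q.Prime] (hpq : p ≠ q) (hV : ∀ v : V, p • v = 0) (φ : V ≃+ V)
    (hφq : ∀ v, φ^[q] v = v) (hfpf : ∀ v, φ v = v → v = 0)
    (hord : orderOf (p : ZMod q) = q - 1) :
    (∀ y y' : V, y ≠ 0 → y' ≠ 0 → ∃ T : V ≃+ V, (∀ v, T (φ v) = φ (T v)) ∧ T y = y') ∧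
    (∀ k : ℕ, ¬ q ∣ k → ∃ T : V ≃+ V, ∀ v, T (φ v) = φ^[k] (T v)) :=
  @mod_transitive_aux V _ _ p q hp hq (AddCommGroup.zmodModule hV) hpq φ hφq hfpf hord

end Cfsg.Agent.Helper67.ThreeOrbit
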