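import Mathlib
import Cfsg.Agent.Lib.Helper67.ThreeOrbit.ModuleK

set_option autoImplicit false

namespace Cfsg.Agent.Helper67.ThreeOrbit

/-- multiplicative version of `mod_transitive` -/
theorem mod_transitive_mul {A : Type*} [Group A] [Finite A] (hcomm : ∀ a b : A, a * b = b * a)
    (p q : ℕ) [hp : Fact p.Prime] [hq : Fact q.Prime] (hpq : p ≠ q) (hA : ∀ a : A, a ^ p = 1)
    (φ : A ≃* A) (hφq : ∀ a, φ^[q] a = a) (hfpf : ∀ a, φ a = a → a = 1)
    (hord : orderOf (p : ZMod q) = q - 1) :
    (∀ y y' : A, y ≠ 1 → y' ≠ 1 → ∃ T : A ≃* A, (∀ v, T (φ v) = φ (T v)) ∧ T y = y') ∧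
    (∀ k : ℕ, ¬ q ∣ k → ∃ T : A ≃* A, ∀ v, T (φ v) = φ^[k] (T v)) := by
  letI : CommGroup A := { (inferInstance : Group A) with mul_comm := hcomm }
  have hiter : ∀ (n : ℕ) (v : Additive A),
      (MulEquiv.toAdditive φ)^[n] v = Additive.ofMul (φ^[n] (Additive.toMul v)) := by
    intro n
    induction n with
    | zero => intro v; rfl
    | succ n ih =>
      intro v
      rw [Function.iterate_succ_apply', Function.iterate_succ_apply', ih]
      rfl
  obtain ⟨h1, h2⟩ := mod_transitive (V := Additive A) p q hpq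
    (fun v => by
      change Additive.ofMul ((Additive.toMul v) ^ p) = 0
      rw [hA]; rfl)
    (MulEquiv.toAdditive φ)
    (fun v => by rw [hiter, hφq]; rfl)
    (fun v hv => by
      have := hfpf (Additive.toMul v) hv
      exact this)
    hord
  constructor
  · intro y y' hy hy'
    obtain ⟨T, hT1, hT2⟩ := h1 (Additive.ofMul y) (Additive.ofMul y') hy hy'
    exact ⟨MulEquiv.toAdditive.symm T, fun v => hT1 (Additive.ofMul v), hT2⟩
  · intro k hk
    obtain ⟨T, hT⟩ := h2 k hk
    refine ⟨MulEquiv.toAdditive.symm T, fun v => ?_⟩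
    have := hT (Additive.ofMul v)
    rw [hiter] at this
    exact this

end Cfsg.Agent.Helper67.ThreeOrbit
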