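import Mathlib

set_option autoImplicit false

namespace Cfsg.Agent.Helper67.ThreeOrbit

open MulAction

theorem mk_eq_mk_iff {G : Type*} [Group G] (g h : G) :
    (Quotient.mk'' g : orbitRel.Quotient (MulAut G) G) = Quotient.mk'' h ↔
      ∃ α : MulAut G, α h = g := by
  rw [Quotient.eq'']
  change g ∈ orbit (MulAut G) h ↔ _
  rw [mem_orbit_iff]
  rfl

theorem card_orbits_eq_three_of {G : Type*} [Group G] [Finite G] (p q : ℕ) (hp1 : p ≠ 1)
    (hq1 : q ≠ 1) (hpq : p ≠ q) (a b : G) (ha : orderOf a = p) (hb : orderOf b = q)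
    (hall : ∀ g : G, orderOf g = 1 ∨ orderOf g = p ∨ orderOf g = q)
    (htrans : ∀ g h : G, orderOf g = orderOf h → ∃ α : MulAut G, α g = h) :
    Nat.card (orbitRel.Quotient (MulAut G) G) = 3 := by
  classical
  let F : orbitRel.Quotient (MulAut G) G → ℕ :=
    Quotient.lift (fun g => orderOf g) (by
      intro g h hgh
      have : g ∈ orbit (MulAut G) h := hgh
      obtain ⟨α, rfl⟩ := mem_orbit_iff.1 this
      exact MulEquiv.orderOf_eq α h)
  have hF : ∀ g : G, F (Quotient.mk'' g) = orderOf g := fun g => rfl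
  have hinj : Function.Injective F := by
    intro u v huv
    induction u using Quotient.inductionOn' with
    | _ g =>
      induction v using Quotient.inductionOn' with
      | _ h =>
        rw [hF, hF] at huv
        rw [mk_eq_mk_iff]
        exact htrans h g huv.symm
  have hrange : Set.range F = {1, p, q} := by
    ext m
    simp only [Set.mem_range, Set.mem_insert_iff, Set.mem_singleton_iff]
    constructor
    · rintro ⟨u, rfl⟩
      induction u using Quotient.inductionOn' with
      | _ g => rw [hF]; exact hall g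
    · rintro (rfl | rfl | rfl)
      · exact ⟨Quotient.mk'' 1, by rw [hF, orderOf_one]⟩
      · exact ⟨Quotient.mk'' a, by rw [hF, ha]⟩
      · exact ⟨Quotient.mk'' b, by rw [hF, hb]⟩
  rw [← Nat.card_range_of_injective hinj, hrange, Nat.card_coe_set_eq, Set.ncard_eq_three]
  exact ⟨1, p, q, hp1.symm, hq1.symm, hpq, rfl⟩

theorem orbit_cases_of_card_three {G : Type*} [Group G] [Finite G]
    (h3 : Nat.card (orbitRel.Quotient (MulAut G) G) = 3) (a b : G) (ha1 : orderOf a ≠ 1)
    (hb1 : orderOf b ≠ 1) (hab : orderOf a ≠ orderOf b) :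
    ∀ g : G, g = 1 ∨ (∃ α : MulAut G, α a = g) ∨ (∃ α : MulAut G, α b = g) := by
  classical
  have hne : ∀ g h : G, orderOf g ≠ orderOf h →
      (Quotient.mk'' g : orbitRel.Quotient (MulAut G) G) ≠ Quotient.mk'' h := by
    intro g h hgh he
    rw [mk_eq_mk_iff] at he
    obtain ⟨α, rfl⟩ := he
    exact hgh (MulEquiv.orderOf_eq α h)
  let S : Set (orbitRel.Quotient (MulAut G) G) :=
    {Quotient.mk'' 1, Quotient.mk'' a, Quotient.mk'' b}
  have hS : S.ncard = 3 := by
    rw [Set.ncard_eq_three]
    refine ⟨_, _, _, hne 1 a ?_, hne 1 b ?_, hne a b hab, rfl⟩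
    · rw [orderOf_one]; exact ha1.symm
    · rw [orderOf_one]; exact hb1.symm
  have hSu : S = Set.univ := by
    rw [Set.eq_univ_iff_ncard, hS, h3]
  intro g
  have hg : (Quotient.mk'' g : orbitRel.Quotient (MulAut G) G) ∈ S := by rw [hSu]; trivial
  simp only [S, Set.mem_insert_iff, Set.mem_singleton_iff, mk_eq_mk_iff] at hg
  rcases hg with ⟨α, h⟩ | h | h
  · left; rw [← h, map_one]
  · right; left; exact h
  · right; right; exact h

end Cfsg.Agent.Helper67.ThreeOrbit
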