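import Mathlib

set_option autoImplicit false

namespace Cfsg.Agent.Helper67.ThreeOrbit

open Subgroup

variable {G : Type*} [Group G]

/-- the `k`-th power map on a cyclic subgroup, as an automorphism when `k` is coprime to the
order -/
noncomputable def powEquiv [Finite G] (x : G) (k : ℕ) (hk : (orderOf x).Coprime k) :
    ↥(zpowers x) ≃* ↥(zpowers x) :=
  let f : ↥(zpowers x) →* ↥(zpowers x) :=
    { toFun := fun g => g ^ k
      map_one' := one_pow k
      map_mul' := fun a b => by
        have hab : Commute a b := by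
          obtain ⟨i, hi⟩ := a.2
          obtain ⟨j, hj⟩ := b.2
          apply Subtype.ext
          change (a : G) * (b : G) = (b : G) * (a : G)
          rw [← hi, ← hj, ← zpow_add, ← zpow_add, add_comm]
        exact hab.mul_pow k }
  have hinj : Function.Injective f := by
    rw [injective_iff_map_eq_one]
    intro g hg
    have hg' : g ^ k = 1 := hg
    have h1 : orderOf g ∣ k := orderOf_dvd_of_pow_eq_one hg'
    have h2 : orderOf g ∣ orderOf x := by
      rw [← Subgroup.orderOf_coe]
      exact orderOf_dvd_of_mem_zpowers g.2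
    have h3 : orderOf g ∣ Nat.gcd (orderOf x) k := Nat.dvd_gcd h2 h1
    rw [hk] at h3
    exact orderOf_eq_one_iff.1 (Nat.dvd_one.1 h3)
  MulEquiv.ofBijective f ⟨hinj, Finite.surjective_of_injective hinj⟩

theorem powEquiv_apply [Finite G] (x : G) (k : ℕ) (hk : (orderOf x).Coprime k)
    (g : ↥(zpowers x)) : powEquiv x k hk g = g ^ k := rfl

/-- An automorphism of an internal semidirect product `P ⋊ ⟨x⟩` from an automorphism `T` of `P`
with `T ∘ (conj x) = (conj x^k) ∘ T`. -/
theorem exists_aut_of_equivariant [Finite G] (P : Subgroup G) [hP : P.Normal] (x : G)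
    (hc : P.IsComplement' (zpowers x)) (T : ↥P ≃* ↥P) (k : ℕ) (hk : (orderOf x).Coprime k)
    (hT : ∀ v : ↥P, ((T ⟨x * v * x⁻¹, hP.conj_mem v v.2 x⟩ : ↥P) : G) =
      x ^ k * (T v : G) * (x ^ k)⁻¹) :
    ∃ α : MulAut G, (∀ v : ↥P, α (v : G) = (T v : G)) ∧ α x = x ^ k := by
  set e := SemidirectProduct.mulEquivSubgroup hc with he
  -- the general equivariance
  have hgen : ∀ (i : ℕ) (v : ↥P),
      ((T ⟨x ^ i * v * (x ^ i)⁻¹, hP.conj_mem v v.2 (x ^ i)⟩ : ↥P) : G) =
        (x ^ i) ^ k * (T v : G) * ((x ^ i) ^ k)⁻¹ := by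
    intro i
    induction i with
    | zero =>
      intro v
      simp
    | succ i ih =>
      intro v
      have h1 := hT ⟨x ^ i * v * (x ^ i)⁻¹, hP.conj_mem v v.2 (x ^ i)⟩
      have h2 := ih v
      have e1 : (⟨x ^ (i + 1) * v * (x ^ (i + 1))⁻¹, hP.conj_mem v v.2 (x ^ (i + 1))⟩ : ↥P) =
          ⟨x * ((⟨x ^ i * v * (x ^ i)⁻¹, hP.conj_mem v v.2 (x ^ i)⟩ : ↥P) : G) * x⁻¹,
            hP.conj_mem _ (hP.conj_mem v v.2 (x ^ i)) x⟩ := by
        apply Subtype.ext
        simp only [pow_succ', mul_inv_rev, mul_assoc]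
      rw [e1, h1, h2]
      have e2 : (x ^ (i + 1)) ^ k = x ^ k * (x ^ i) ^ k := by
        rw [← pow_mul, ← pow_mul, ← pow_add]
        congr 1
        ring
      rw [e2]
      simp only [mul_inv_rev, mul_assoc]
  have hcomp : ∀ g : ↥(zpowers x),
      ((P.normalizerMonoidHom).comp (inclusion (P.normalizer_eq_top ▸ le_top)) g).trans T =
        T.trans ((P.normalizerMonoidHom).comp (inclusion (P.normalizer_eq_top ▸ le_top))
          (powEquiv x k hk g)) := by
    intro g
    obtain ⟨i, hi⟩ := (mem_powers_iff_mem_zpowers.2 g.2)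
    ext v
    simp only [MulEquiv.trans_apply, MonoidHom.comp_apply]
    have hgi : (g : G) = x ^ i := hi.symm
    have h3 := hgen i v
    have key : ∀ (h : ↥(zpowers x)) (w : ↥P),
        ((P.normalizerMonoidHom ((inclusion (P.normalizer_eq_top ▸ le_top)) h)) w : G) =
          (h : G) * w * (h : G)⁻¹ := fun h w => rfl
    rw [key, powEquiv_apply]
    have e1 : (P.normalizerMonoidHom ((inclusion (P.normalizer_eq_top ▸ le_top)) g)) v =
        ⟨x ^ i * v * (x ^ i)⁻¹, hP.conj_mem v v.2 (x ^ i)⟩ := by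
      apply Subtype.ext
      rw [key, hgi]
    rw [e1, h3]
    simp only [Subgroup.coe_pow, hgi]
  refine ⟨e.symm.trans ((SemidirectProduct.congr T (powEquiv x k hk) hcomp).trans e), ?_, ?_⟩
  · intro v
    have h1 : e.symm (v : G) = SemidirectProduct.inl v := by
      rw [MulEquiv.symm_apply_eq]
      simp [he]
    change e ((SemidirectProduct.congr T (powEquiv x k hk) hcomp) (e.symm (v : G))) = _
    rw [h1]
    simp [he, SemidirectProduct.congr]
  · have h1 : e.symm x = SemidirectProduct.inr ⟨x, mem_zpowers x⟩ := by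
      rw [MulEquiv.symm_apply_eq]
      simp [he]
    change e ((SemidirectProduct.congr T (powEquiv x k hk) hcomp) (e.symm x)) = _
    rw [h1]
    have h2 : (SemidirectProduct.congr T (powEquiv x k hk) hcomp)
        (SemidirectProduct.inr ⟨x, mem_zpowers x⟩) =
        SemidirectProduct.inr (powEquiv x k hk ⟨x, mem_zpowers x⟩) := by
      ext <;> simp [SemidirectProduct.congr]
    rw [h2, powEquiv_apply]
    simp [he]

end Cfsg.Agent.Helper67.ThreeOrbit
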