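import Mathlib
import Cfsg.Agent.Lib.Helper67.ThreeOrbit.SemiAut
import Cfsg.Agent.Lib.Helper67.ThreeOrbit.ModMul
import Cfsg.Agent.Lib.Helper67.ThreeOrbit.OrbitCount

set_option autoImplicit false

namespace Cfsg.Agent.Helper67.ThreeOrbit

open Subgroup

variable {G : Type*} [Group G]

/-- elements outside the normal Sylow `p`-subgroup have order `q` -/
theorem orderOf_eq_of_not_mem [Finite G] (p q n : ℕ) [hp : Fact p.Prime] [hq : Fact q.Prime]
    (hcard : Nat.card G = p ^ n * q) (P : Subgroup G) [hPn : P.Normal]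
    (hPcard : Nat.card P = p ^ n) (hPexp : ∀ a ∈ P, a ^ p = 1)
    (hfpf : ∀ x y : G, orderOf x = q → orderOf y = p → x * y * x⁻¹ ≠ y)
    (g : G) (hg : g ∉ P) : orderOf g = q := by
  have hp0 : 0 < p ^ n := pos_of_ne_zero (pow_ne_zero _ hp.1.ne_zero)
  have hquot : Nat.card (G ⧸ P) = q := by
    have h1 := Subgroup.card_eq_card_quotient_mul_card_subgroup P
    rw [hcard, hPcard, mul_comm] at h1
    exact (Nat.eq_of_mul_eq_mul_right hp0 h1).symm
  have hgq : g ^ q ∈ P := by
    rw [← QuotientGroup.eq_one_iff, QuotientGroup.mk_pow, ← hquot]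
    exact pow_card_eq_one'
  set m := orderOf g with hm
  have hqm : q ∣ m := by
    by_contra hndvd
    apply hg
    rw [← QuotientGroup.eq_one_iff]
    have h1 : orderOf (QuotientGroup.mk g : G ⧸ P) ∣ q := by
      rw [← hquot]; exact orderOf_dvd_natCard _
    have h2 : orderOf (QuotientGroup.mk g : G ⧸ P) ∣ m := by
      apply orderOf_dvd_of_pow_eq_one
      rw [← QuotientGroup.mk_pow, hm, pow_orderOf_eq_one]
      rfl
    have h3 : orderOf (QuotientGroup.mk g : G ⧸ P) ∣ Nat.gcd q m := Nat.dvd_gcd h1 h2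
    have h4 : Nat.gcd q m = 1 := (Nat.Prime.coprime_iff_not_dvd hq.1).2 hndvd
    rw [h4] at h3
    exact orderOf_eq_one_iff.1 (Nat.dvd_one.1 h3)
  have hmqp : m ∣ q * p := by
    apply orderOf_dvd_of_pow_eq_one
    rw [pow_mul]
    exact hPexp _ hgq
  obtain ⟨t, ht⟩ := hqm
  have htp : t ∣ p := by
    rw [ht] at hmqp
    exact Nat.dvd_of_mul_dvd_mul_left hq.1.pos hmqp
  rcases (Nat.dvd_prime hp.1).1 htp with h1 | h1
  · rw [ht, h1, mul_one]
  · exfalso
    rw [h1] at ht
    have hy : orderOf (g ^ q) = p := by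
      rw [orderOf_pow_of_dvd hq.1.ne_zero (by rw [← hm, ht]; exact dvd_mul_right q p), ← hm, ht,
        Nat.mul_div_cancel_left _ hq.1.pos]
    have hz : orderOf (g ^ p) = q := by
      rw [orderOf_pow_of_dvd hp.1.ne_zero (by rw [← hm, ht]; exact dvd_mul_left p q), ← hm, ht,
        Nat.mul_div_cancel _ hp.1.pos]
    apply hfpf (g ^ p) (g ^ q) hz hy
    have : Commute (g ^ p) (g ^ q) := Commute.pow_pow_self g p q
    rw [this.eq, mul_assoc, mul_inv_cancel, mul_one]

theorem conjNormal_iterate (P : Subgroup G) [hPn : P.Normal] (x : G) (i : ℕ) (v : ↥P) :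
    (((MulAut.conjNormal x : MulAut ↥P) : ↥P → ↥P)^[i] v : G) = x ^ i * v * (x ^ i)⁻¹ := by
  induction i with
  | zero => simp
  | succ i ih =>
    rw [Function.iterate_succ_apply', MulAut.conjNormal_apply, ih, pow_succ']
    simp only [mul_inv_rev, mul_assoc]

/-- all of the coset `P h` is `P`-conjugate to `h` when `h` acts without fixed points -/
theorem exists_conj_eq [Finite G] (P : Subgroup G) [hPn : P.Normal]
    (hPcomm : ∀ a b : ↥P, a * b = b * a) (h : G)
    (hfix : ∀ w : ↥P, h * w * h⁻¹ = w → w = 1) (v : ↥P) :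
    ∃ w : ↥P, (w : G) * h * (w : G)⁻¹ = v * h := by
  let ψ : ↥P →* ↥P := MonoidHom.mk' (fun w => w * ⟨h * (w⁻¹ : ↥P) * h⁻¹, hPn.conj_mem _ (w⁻¹).2 h⟩)
    (by
      intro a b
      have e1 : (⟨h * ((a * b)⁻¹ : ↥P) * h⁻¹, hPn.conj_mem _ ((a * b)⁻¹).2 h⟩ : ↥P) =
          ⟨h * (a⁻¹ : ↥P) * h⁻¹, hPn.conj_mem _ (a⁻¹).2 h⟩ *
            ⟨h * (b⁻¹ : ↥P) * h⁻¹, hPn.conj_mem _ (b⁻¹).2 h⟩ := by
        apply Subtype.ext
        have : ((a * b)⁻¹ : ↥P) = a⁻¹ * b⁻¹ := by rw [mul_inv_rev, hPcomm]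
        rw [this]
        simp only [Subgroup.coe_mul, mul_assoc, inv_mul_cancel_left]
      rw [e1]
      set a' : ↥P := ⟨h * (a⁻¹ : ↥P) * h⁻¹, hPn.conj_mem _ (a⁻¹).2 h⟩
      set b' : ↥P := ⟨h * (b⁻¹ : ↥P) * h⁻¹, hPn.conj_mem _ (b⁻¹).2 h⟩
      rw [mul_assoc, mul_assoc, ← mul_assoc b a' b', hPcomm b a', mul_assoc])
  have hinj : Function.Injective ψ := by
    rw [injective_iff_map_eq_one]
    intro w hw
    apply hfix
    have hw' : (w : G) * (h * (w : G)⁻¹ * h⁻¹) = 1 := by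
      have := congrArg (fun u : ↥P => (u : G)) hw
      simpa [ψ] using this
    have h3 : h * (w : G)⁻¹ * h⁻¹ = (w : G)⁻¹ := eq_inv_of_mul_eq_one_right hw'
    have h4 := congrArg (fun u : G => u⁻¹) h3
    simpa [mul_assoc] using h4
  obtain ⟨w, hw⟩ := Finite.surjective_of_injective hinj v
  refine ⟨w, ?_⟩
  have hw' : (w : G) * (h * (w : G)⁻¹ * h⁻¹) = v := by
    have := congrArg (fun u : ↥P => (u : G)) hw
    simpa [ψ] using this
  rw [← hw']
  simp only [mul_assoc, inv_mul_cancel, mul_one]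

theorem backward_core [Finite G] (p q n : ℕ) [hp : Fact p.Prime] [hq : Fact q.Prime]
    (hpq : p ≠ q) (hn : 1 ≤ n) (hcard : Nat.card G = p ^ n * q) (P : Subgroup G)
    [hPn : P.Normal] (hPcard : Nat.card P = p ^ n) (hPcomm : ∀ a b : ↥P, a * b = b * a)
    (hPexp : ∀ a ∈ P, a ^ p = 1) (hord : orderOf (p : ZMod q) = q - 1)
    (hfpf : ∀ x y : G, orderOf x = q → orderOf y = p → x * y * x⁻¹ ≠ y) :
    Nat.card (MulAction.orbitRel.Quotient (MulAut G) G) = 3 := by
  classical
  have hcop : Nat.Coprime p q := (Nat.coprime_primes hp.1 hq.1).2 hpq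
  -- elements of order p and q
  obtain ⟨x, hx⟩ := exists_prime_orderOf_dvd_card' (G := G) q (by rw [hcard]; exact dvd_mul_left _ _)
  obtain ⟨a, ha⟩ := exists_prime_orderOf_dvd_card' (G := G) p (by
    rw [hcard]; exact Dvd.dvd.mul_right (dvd_pow_self p (by omega)) q)
  have hc : P.IsComplement' (zpowers x) := by
    apply Subgroup.isComplement'_of_coprime
    · rw [Nat.card_zpowers, hx, hPcard, hcard]
    · rw [Nat.card_zpowers, hx, hPcard]
      exact Nat.Coprime.pow_left n hcop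
  have hnotP : ∀ g : G, g ∉ P → orderOf g = q :=
    orderOf_eq_of_not_mem p q n hcard P hPcard hPexp hfpf
  have hinP : ∀ g : G, g ∈ P → orderOf g = 1 ∨ orderOf g = p := fun g hg =>
    (Nat.dvd_prime hp.1).1 (orderOf_dvd_of_pow_eq_one (hPexp g hg))
  have hall : ∀ g : G, orderOf g = 1 ∨ orderOf g = p ∨ orderOf g = q := by
    intro g
    by_cases hg : g ∈ P
    · rcases hinP g hg with h | h
      · exact Or.inl h
      · exact Or.inr (Or.inl h)
    · exact Or.inr (Or.inr (hnotP g hg))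
  have hmemP : ∀ g : G, orderOf g = p → g ∈ P := by
    intro g hg
    by_contra hgP
    exact hpq (hg.symm.trans (hnotP g hgP))
  -- the module data
  set φ : ↥P ≃* ↥P := MulAut.conjNormal x with hφ
  have hφapp : ∀ v : ↥P, φ v = ⟨x * v * x⁻¹, hPn.conj_mem v v.2 x⟩ := by
    intro v
    apply Subtype.ext
    rw [hφ, MulAut.conjNormal_apply]
  have hφiter : ∀ (i : ℕ) (v : ↥P), ((φ^[i] v : ↥P) : G) = x ^ i * v * (x ^ i)⁻¹ := by
    intro i v
    exact conjNormal_iterate P x i v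
  have hφq : ∀ v : ↥P, φ^[q] v = v := by
    intro v
    apply Subtype.ext
    rw [hφiter, ← hx, pow_orderOf_eq_one]
    simp
  have hfix : ∀ (h : G), orderOf h = q → ∀ w : ↥P, h * w * h⁻¹ = w → w = 1 := by
    intro h hh w hw
    by_contra hw1
    have hwo : orderOf (w : G) = p := by
      rcases hinP w w.2 with h1 | h1
      · exfalso
        apply hw1
        apply Subtype.ext
        exact orderOf_eq_one_iff.1 h1
      · exact h1
    exact hfpf h w hh hwo hw
  have hfpf' : ∀ v : ↥P, φ v = v → v = 1 := by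
    intro v hv
    apply hfix x hx v
    have := congrArg (fun u : ↥P => (u : G)) hv
    rw [hφapp] at this
    exact this
  obtain ⟨h1, h2⟩ := mod_transitive_mul (A := ↥P) hPcomm p q hpq
    (fun v => Subtype.ext (by rw [Subgroup.coe_pow]; exact hPexp v v.2)) φ hφq hfpf' hord
  -- transitivity on elements of order p
  have htransp : ∀ g h : G, orderOf g = p → orderOf h = p → ∃ α : MulAut G, α g = h := by
    intro g h hg hh
    have hg1 : (⟨g, hmemP g hg⟩ : ↥P) ≠ 1 := by
      intro h0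
      have : g = 1 := congrArg (fun u : ↥P => (u : G)) h0
      rw [this, orderOf_one] at hg
      exact hp.1.one_lt.ne hg
    have hh1 : (⟨h, hmemP h hh⟩ : ↥P) ≠ 1 := by
      intro h0
      have : h = 1 := congrArg (fun u : ↥P => (u : G)) h0
      rw [this, orderOf_one] at hh
      exact hp.1.one_lt.ne hh
    obtain ⟨T, hT1, hT2⟩ := h1 _ _ hg1 hh1
    obtain ⟨α, hα1, -⟩ := exists_aut_of_equivariant P x hc T 1 (Nat.coprime_one_right _) (by
      intro v
      rw [← hφapp, hT1, hφapp]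
      simp)
    refine ⟨α, ?_⟩
    have := hα1 ⟨g, hmemP g hg⟩
    rw [hT2] at this
    exact this
  -- transitivity on elements of order q
  have htransq : ∀ g : G, orderOf g = q → ∃ α : MulAut G, α x = g := by
    intro g hg
    have hgP : g ∉ P := by
      intro hgP
      rcases hinP g hgP with h | h
      · rw [hg] at h; exact hq.1.one_lt.ne' h
      · rw [hg] at h; exact hpq h.symm
    obtain ⟨⟨v, h⟩, hvh, -⟩ := hc.existsUnique g
    obtain ⟨i, hi⟩ := mem_powers_iff_mem_zpowers.2 h.2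
    have hi' : (h : G) = x ^ i := hi.symm
    simp only at hvh
    have hqi : ¬ q ∣ i := by
      intro hqi
      apply hgP
      rw [← hvh, hi']
      obtain ⟨c, rfl⟩ := hqi
      rw [pow_mul, ← hx, pow_orderOf_eq_one, one_pow, mul_one]
      exact v.2
    have hcopi : (orderOf x).Coprime i := by
      rw [hx]; exact (Nat.Prime.coprime_iff_not_dvd hq.1).2 hqi
    have hxi : orderOf (x ^ i) = q := by
      rw [Nat.Coprime.orderOf_pow hcopi, hx]
    obtain ⟨w, hw⟩ := exists_conj_eq P hPcomm (x ^ i) (hfix (x ^ i) hxi) v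
    obtain ⟨T, hT⟩ := h2 i hqi
    obtain ⟨α, -, hα2⟩ := exists_aut_of_equivariant P x hc T i hcopi (by
      intro u
      rw [← hφapp, hT, hφiter])
    refine ⟨MulAut.conj (w : G) * α, ?_⟩
    rw [MulAut.mul_apply, hα2, MulAut.conj_apply, hw, ← hvh, hi']
  apply card_orbits_eq_three_of p q hp.1.one_lt.ne' hq.1.one_lt.ne' hpq a x ha hx hall
  intro g h hgh
  rcases hall g with hg | hg | hg
  · refine ⟨1, ?_⟩
    rw [hg] at hgh
    rw [orderOf_eq_one_iff.1 hg, orderOf_eq_one_iff.1 hgh.symm]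
    rfl
  · exact htransp g h hg (hgh ▸ hg)
  · obtain ⟨α, hα⟩ := htransq g hg
    obtain ⟨β, hβ⟩ := htransq h (hgh ▸ hg)
    refine ⟨β * α⁻¹, ?_⟩
    rw [MulAut.mul_apply, ← hα, MulAut.inv_apply_self, hβ]

end Cfsg.Agent.Helper67.ThreeOrbit
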