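import Mathlib
import Cfsg.Agent.S0144
import Cfsg.Agent.Lib.Helper29.CoprimeAb
import Cfsg.Agent.Lib.Helper67.ThreeOrbit.OrbitCount

set_option autoImplicit false

namespace Cfsg.Agent.Helper67.ThreeOrbit

open Subgroup MulAction

variable {G : Type*} [Group G]

/-- A nontrivial finite solvable group has a nontrivial normal `p`-subgroup of exponent `p`
(copied from `Cfsg.Agent.S4213.exists_normal_exponent_p`). -/
theorem exists_normal_exponent_p' [Finite G] [Group.IsSolvable G] [Nontrivial G] :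
    ∃ (K : Subgroup G) (p i : ℕ), K.Normal ∧ p.Prime ∧ 1 ≤ i ∧ Nat.card K = p ^ i ∧
      ∀ k ∈ K, k ^ p = 1 := by
  classical
  let P : Subgroup G → Prop := fun H => H.Normal ∧ H ≠ ⊥
  have htop : P ⊤ := ⟨inferInstance, top_ne_bot⟩
  obtain ⟨K, -, hK⟩ := Finite.exists_le_minimal htop
  obtain ⟨hKn, hK1⟩ := hK.prop
  haveI := hKn
  have hcomm : ⁅K, K⁆ = ⊥ := by
    by_contra hne
    have hP : P ⁅K, K⁆ := ⟨inferInstance, hne⟩
    have hle : ⁅K, K⁆ ≤ K := Subgroup.commutator_le_left K K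
    have h1 := hK.le_of_le hP hle
    exact not_le_of_gt (Group.IsSolvable.commutator_lt_of_ne_bot hK1) h1
  have hab : ∀ a ∈ K, ∀ b ∈ K, a * b = b * a := by
    intro a ha b hb
    have h1 := Subgroup.commutator_eq_bot_iff_le_centralizer.mp hcomm
    exact ((Subgroup.mem_centralizer_iff.mp (h1 ha)) b hb).symm
  have hcard1 : Nat.card K ≠ 1 := fun h => hK1 (Subgroup.card_eq_one.mp h)
  obtain ⟨p, hp, hpdvd⟩ := Nat.exists_prime_and_dvd hcard1
  haveI : Fact p.Prime := ⟨hp⟩
  obtain ⟨x, hx⟩ := exists_prime_orderOf_dvd_card' (G := ↥K) p hpdvd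
  let Kp : Subgroup G :=
    { carrier := {k | k ∈ K ∧ k ^ p = 1}
      mul_mem' := by
        rintro a b ⟨ha, ha'⟩ ⟨hb, hb'⟩
        exact ⟨K.mul_mem ha hb, by
          rw [Commute.mul_pow (show Commute a b from hab a ha b hb), ha', hb', one_mul]⟩
      one_mem' := ⟨K.one_mem, one_pow p⟩
      inv_mem' := by
        rintro a ⟨ha, ha'⟩
        exact ⟨K.inv_mem ha, by rw [inv_pow, ha', inv_one]⟩ }
  have hKpn : Kp.Normal := ⟨fun k hk g => ⟨hKn.conj_mem k hk.1 g, by
    rw [conj_pow, hk.2, mul_one, mul_inv_cancel]⟩⟩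
  have hKp1 : Kp ≠ ⊥ := by
    intro h
    have hxm : (x : G) ∈ Kp := ⟨x.2, by
      have h1 := pow_orderOf_eq_one x
      rw [hx] at h1
      exact_mod_cast congrArg Subtype.val h1⟩
    rw [h, Subgroup.mem_bot] at hxm
    have hx1 : x = 1 := Subtype.ext hxm
    rw [hx1, orderOf_one] at hx
    exact hp.one_lt.ne hx
  have hle : K ≤ Kp := hK.le_of_le ⟨hKpn, hKp1⟩ (fun k hk => hk.1)
  have hexp : ∀ k ∈ K, k ^ p = 1 := fun k hk => (hle hk).2
  have hpg : IsPGroup p K := fun k => ⟨1, by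
    rw [pow_one]
    exact Subtype.ext (by simpa using hexp k k.2)⟩
  obtain ⟨i, hi⟩ := IsPGroup.iff_card.mp hpg
  refine ⟨K, p, i, hKn, hp, ?_, hi, hexp⟩
  by_contra h0
  have h00 : i = 0 := by omega
  rw [h00, pow_zero] at hi
  exact hcard1 hi

/-- the structural part of the forward direction, given a nontrivial normal `p`-subgroup -/
theorem forward_core [Finite G] (p q : ℕ) [hp : Fact p.Prime] [hq : Fact q.Prime] (hpq : p ≠ q)
    (hall : ∀ g : G, orderOf g = 1 ∨ orderOf g = p ∨ orderOf g = q)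
    (htrans : ∀ g h : G, orderOf g = orderOf h → ∃ α : MulAut G, α g = h)
    (hdiv : ∀ t : ℕ, t.Prime → t ∣ Nat.card G → t = p ∨ t = q) (hqd : q ∣ Nat.card G)
    (K : Subgroup G) [hKn : K.Normal] (hKp : IsPGroup p K) (hK1 : K ≠ ⊥) (S : Sylow p G) :
    (∀ g : G, g ∈ S ↔ orderOf g = 1 ∨ orderOf g = p) ∧ (S : Subgroup G).Normal ∧
    (∀ a b : ↥(S : Subgroup G), a * b = b * a) ∧ (∀ a ∈ S, a ^ p = 1) ∧
    (∃ a : G, orderOf a = p) ∧ (∃ x : G, orderOf x = q) ∧
    (∀ x y : G, orderOf x = q → orderOf y = p → x * y * x⁻¹ ≠ y) ∧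
    (∃ n : ℕ, 1 ≤ n ∧ Nat.card G = p ^ n * q) := by
  classical
  have hp1 : p ≠ 1 := hp.1.one_lt.ne'
  have hq1 : q ≠ 1 := hq.1.one_lt.ne'
  -- p-elements have order 1 or p
  have hpel : ∀ g : G, (∃ k : ℕ, g ^ p ^ k = 1) → orderOf g = 1 ∨ orderOf g = p := by
    intro g ⟨k, hk⟩
    rcases hall g with h | h | h
    · exact Or.inl h
    · exact Or.inr h
    · exfalso
      have h1 : q ∣ p ^ k := h ▸ orderOf_dvd_of_pow_eq_one hk
      have h2 := (Nat.prime_dvd_prime_iff_eq hq.1 hp.1).1 (hq.1.dvd_of_dvd_pow h1)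
      exact hpq h2.symm
  -- an element of order p in K
  obtain ⟨c, hcK, hc1⟩ := K.bot_or_exists_ne_one.resolve_left hK1
  have hco : orderOf c = p := by
    have hk : ∃ k : ℕ, c ^ p ^ k = 1 := by
      obtain ⟨k, hk⟩ := hKp ⟨c, hcK⟩
      exact ⟨k, by simpa using congrArg (fun u : ↥K => (u : G)) hk⟩
    rcases hpel c hk with h | h
    · exact absurd (orderOf_eq_one_iff.1 h) hc1
    · exact h
  -- every element of order p is in S
  have hmem1 : ∀ g : G, orderOf g = p → g ∈ S := by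
    intro g hg
    obtain ⟨α, hα⟩ := htrans c g (hco.trans hg.symm)
    haveI : (K.map α.toMonoidHom).Normal := hKn.map α.toMonoidHom α.surjective
    have hpg : IsPGroup p (K.map α.toMonoidHom) := hKp.map α.toMonoidHom
    have hle := hpg.le_sylow_of_normal S
    exact hle ⟨c, hcK, hα⟩
  have hSmem : ∀ g : G, g ∈ S ↔ orderOf g = 1 ∨ orderOf g = p := by
    intro g
    constructor
    · intro hg
      apply hpel
      obtain ⟨k, hk⟩ := S.isPGroup' ⟨g, hg⟩
      exact ⟨k, by simpa using congrArg (fun u : ↥(S : Subgroup G) => (u : G)) hk⟩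
    · rintro (h | h)
      · rw [orderOf_eq_one_iff.1 h]; exact one_mem _
      · exact hmem1 g h
  have hSn : (S : Subgroup G).Normal := by
    constructor
    intro g hg x
    change x * g * x⁻¹ ∈ S
    rw [hSmem, ← MulAut.conj_apply, MulEquiv.orderOf_eq]
    exact (hSmem g).1 hg
  have hSexp : ∀ a ∈ S, a ^ p = 1 := by
    intro a ha
    rcases (hSmem a).1 ha with h | h
    · rw [orderOf_eq_one_iff.1 h, one_pow]
    · rw [← h, pow_orderOf_eq_one]
  have hcS : c ∈ S := hmem1 c hco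
  -- fixed-point-freeness
  have hfpf : ∀ x y : G, orderOf x = q → orderOf y = p → x * y * x⁻¹ ≠ y := by
    intro x y hx hy hxy
    have hcomm : Commute x y := by
      have : x * y = y * x := by
        calc x * y = x * y * x⁻¹ * x := by group
          _ = y * x := by rw [hxy]
      exact this
    have hcop : (orderOf x).Coprime (orderOf y) := by
      rw [hx, hy]; exact (Nat.coprime_primes hq.1 hp.1).2 hpq.symm
    have ho := hcomm.orderOf_mul_eq_mul_orderOf_of_coprime hcop
    rw [hx, hy] at ho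
    rcases hall (x * y) with h | h | h
    · rw [h] at ho
      have := Nat.eq_one_of_mul_eq_one_left ho.symm
      exact hp1 this
    · rw [h] at ho
      have : q * p = 1 * p := by rw [one_mul]; exact ho.symm
      exact hq1 (Nat.eq_of_mul_eq_mul_right hp.1.pos this)
    · rw [h] at ho
      have : q * p = q * 1 := by rw [mul_one]; exact ho.symm
      exact hp1 (Nat.eq_of_mul_eq_mul_left hq.1.pos this)
  -- S is abelian
  have hSpg : IsPGroup p (S : Subgroup G) := S.isPGroup'
  haveI : Nontrivial ↥(S : Subgroup G) := ⟨⟨⟨c, hcS⟩, 1, fun h => hc1 (congrArg Subtype.val h)⟩⟩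
  have hcen : Nontrivial (Subgroup.center ↥(S : Subgroup G)) := hSpg.center_nontrivial
  obtain ⟨z, hz, hz1⟩ := (Subgroup.center ↥(S : Subgroup G)).exists_ne_one_of_nontrivial
  have hzo : orderOf (z : G) = p := by
    rcases (hSmem z).1 z.2 with h | h
    · exact absurd (Subtype.ext (orderOf_eq_one_iff.1 h)) hz1
    · exact h
  have hScomm : ∀ a b : ↥(S : Subgroup G), a * b = b * a := by
    intro a b
    by_cases ha1 : a = 1
    · rw [ha1, one_mul, mul_one]
    have hao : orderOf (a : G) = p := by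
      rcases (hSmem a).1 a.2 with h | h
      · exact absurd (Subtype.ext (orderOf_eq_one_iff.1 h)) ha1
      · exact h
    obtain ⟨α, hα⟩ := htrans z a (hzo.trans hao.symm)
    have hb' : α.symm (b : G) ∈ S := by
      rw [hSmem, MulEquiv.orderOf_eq]
      exact (hSmem b).1 b.2
    have hzb := Subgroup.mem_center_iff.1 hz ⟨α.symm b, hb'⟩
    have hzb' : α.symm (b : G) * (z : G) = (z : G) * α.symm (b : G) := congrArg Subtype.val hzb
    have h5 := congrArg α hzb'
    rw [map_mul, map_mul, MulEquiv.apply_symm_apply, hα] at h5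
    exact Subtype.ext h5.symm
  -- order of G
  have hpd : p ∣ Nat.card G := hco ▸ orderOf_dvd_natCard c
  have hG0 : Nat.card G ≠ 0 := Nat.card_pos.ne'
  obtain ⟨x₀, hx₀⟩ := exists_prime_orderOf_dvd_card' (G := G) q hqd
  refine ⟨hSmem, hSn, hScomm, hSexp, ⟨c, hco⟩, ⟨x₀, hx₀⟩, hfpf, ?_⟩
  set n := (Nat.card G).factorization p with hn
  have hn1 : 1 ≤ n := (hp.1.factorization_pos_of_dvd hG0 hpd)
  set w := Nat.card G / p ^ n with hw
  have hGw : Nat.card G = p ^ n * w := (Nat.ordProj_mul_ordCompl_eq_self (Nat.card G) p).symm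
  have hw0 : w ≠ 0 := by
    intro h
    rw [h, mul_zero] at hGw
    exact hG0 hGw
  have hpw : ¬ p ∣ w := Nat.not_dvd_ordCompl hp.1 hG0
  have hwq : ∀ {d : ℕ}, d.Prime → d ∣ w → d = q := by
    intro d hd hdw
    rcases hdiv d hd (hGw ▸ Dvd.dvd.mul_left hdw _) with h | h
    · exact absurd (h ▸ hdw) hpw
    · exact h
  have hwpow := Nat.eq_prime_pow_of_unique_prime_dvd hw0 hwq
  set m := w.primeFactorsList.length with hm
  have hm1 : m ≠ 0 := by
    intro h0
    rw [h0, pow_zero] at hwpow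
    rw [hwpow, mul_one] at hGw
    rw [hGw] at hqd
    exact hpq ((Nat.prime_dvd_prime_iff_eq hq.1 hp.1).1 (hq.1.dvd_of_dvd_pow hqd)).symm
  have hm2 : m < 2 := by
    by_contra hge
    push Not at hge
    have hq2 : q ^ 2 ∣ Nat.card G := by
      rw [hGw, hwpow]
      exact Dvd.dvd.mul_left (pow_dvd_pow q hge) _
    obtain ⟨E, hE⟩ := Sylow.exists_subgroup_card_pow_prime q hq2
    have hEcomm : ∀ x ∈ E, ∀ y ∈ E, x * y = y * x := by
      intro x hx y hy
      have hmc : IsMulCommutative ↥E := IsPGroup.isMulCommutative_of_card_eq_prime_sq (p := q) hE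
      have := hmc.is_comm.comm (⟨x, hx⟩ : ↥E) ⟨y, hy⟩
      exact congrArg Subtype.val this
    have hEo : ∀ x ∈ E, x ≠ 1 → orderOf x = q := by
      intro x hx hx1
      have hd : orderOf x ∣ q ^ 2 := by
        rw [← hE]
        exact (Subgroup.orderOf_coe (⟨x, hx⟩ : ↥E)) ▸ orderOf_dvd_natCard (⟨x, hx⟩ : ↥E)
      rcases hall x with h | h | h
      · exact absurd (orderOf_eq_one_iff.1 h) hx1
      · exfalso
        rw [h] at hd
        exact hpq ((Nat.prime_dvd_prime_iff_eq hp.1 hq.1).1 (hp.1.dvd_of_dvd_pow hd))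
      · exact h
    have hcop : (Nat.card E).Coprime (Nat.card (S : Subgroup G)) := by
      obtain ⟨k, hk⟩ := IsPGroup.iff_card.1 S.isPGroup'
      rw [hE, hk]
      exact Nat.Coprime.pow _ _ ((Nat.coprime_primes hq.1 hp.1).2 hpq.symm)
    have hEN : E ≤ normalizer ((S : Subgroup G) : Set G) := by
      haveI := hSn
      rw [Subgroup.normalizer_eq_top]
      exact le_top
    have hsup := Helper29.iSup_cyc_eq E (S : Subgroup G) hEcomm hEN hcop
    have hbot : (S : Subgroup G) = ⊥ := by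
      rw [← hsup]
      apply le_antisymm _ bot_le
      apply iSup₂_le
      rintro B ⟨hBE, a, haE, hBa⟩ y ⟨hyS, hyB⟩
      rw [Subgroup.mem_bot]
      have hq2' := hq.1.two_le
      have hB1 : B ≠ ⊥ := by
        rintro rfl
        rw [bot_sup_eq] at hBa
        have hao : orderOf a = q ^ 2 := by rw [← Nat.card_zpowers, hBa, hE]
        rcases hall a with h | h | h
        · rw [h] at hao
          nlinarith
        · rw [h] at hao
          exact hpq ((Nat.prime_dvd_prime_iff_eq hq.1 hp.1).1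
            (hao ▸ dvd_pow_self q two_ne_zero)).symm
        · rw [h] at hao
          nlinarith
      obtain ⟨x, hxB, hx1⟩ := B.bot_or_exists_ne_one.resolve_left hB1
      have hxo := hEo x (hBE hxB) hx1
      by_contra hy1
      have hyo : orderOf y = p := by
        rcases (hSmem y).1 hyS with h | h
        · exact absurd (orderOf_eq_one_iff.1 h) hy1
        · exact h
      apply hfpf x y hxo hyo
      have := Subgroup.mem_centralizer_iff.1 hyB x hxB
      rw [this, mul_assoc, mul_inv_cancel, mul_one]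
    exact hc1 ((Subgroup.mem_bot).1 (hbot ▸ hcS))
  have hm1' : m = 1 := by omega
  refine ⟨n, hn1, ?_⟩
  rw [hGw, hwpow, hm1', pow_one]

theorem forward_structure [Finite G] (hnpp : ¬ IsPrimePow (Nat.card G)) (hnt : Nat.card G ≠ 1)
    (h3 : Nat.card (orbitRel.Quotient (MulAut G) G) = 3) :
    ∃ (p q : ℕ) (_ : Fact p.Prime) (_ : Fact q.Prime), p ≠ q ∧
      (∀ g : G, orderOf g = 1 ∨ orderOf g = p ∨ orderOf g = q) ∧
      (∀ g h : G, orderOf g = orderOf h → ∃ α : MulAut G, α g = h) ∧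
      ∀ S : Sylow p G, (∀ g : G, g ∈ S ↔ orderOf g = 1 ∨ orderOf g = p) ∧
        (S : Subgroup G).Normal ∧
        (∀ a b : ↥(S : Subgroup G), a * b = b * a) ∧ (∀ a ∈ S, a ^ p = 1) ∧
        (∃ a : G, orderOf a = p) ∧ (∃ x : G, orderOf x = q) ∧
        (∀ x y : G, orderOf x = q → orderOf y = p → x * y * x⁻¹ ≠ y) ∧
        (∃ n : ℕ, 1 ≤ n ∧ Nat.card G = p ^ n * q) := by
  classical
  have hG0 : Nat.card G ≠ 0 := Nat.card_pos.ne'
  obtain ⟨r, hr, hrd⟩ := Nat.exists_prime_and_dvd hnt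
  have hex : ∃ s : ℕ, s.Prime ∧ s ∣ Nat.card G ∧ s ≠ r := by
    by_contra hno
    push Not at hno
    apply hnpp
    rw [isPrimePow_iff_unique_prime_dvd]
    exact ⟨r, ⟨hr, hrd⟩, fun s ⟨hs, hsd⟩ => hno s hs hsd⟩
  obtain ⟨s, hs, hsd, hsr⟩ := hex
  haveI hrF : Fact r.Prime := ⟨hr⟩
  haveI hsF : Fact s.Prime := ⟨hs⟩
  obtain ⟨a, ha⟩ := exists_prime_orderOf_dvd_card' (G := G) r hrd
  obtain ⟨b, hb⟩ := exists_prime_orderOf_dvd_card' (G := G) s hsd
  have hcases := orbit_cases_of_card_three h3 a b (ha ▸ hr.one_lt.ne') (hb ▸ hs.one_lt.ne')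
    (by rw [ha, hb]; exact hsr.symm)
  have hall : ∀ g : G, orderOf g = 1 ∨ orderOf g = r ∨ orderOf g = s := by
    intro g
    rcases hcases g with h | ⟨α, h⟩ | ⟨α, h⟩
    · left; rw [h, orderOf_one]
    · right; left; rw [← h, MulEquiv.orderOf_eq, ha]
    · right; right; rw [← h, MulEquiv.orderOf_eq, hb]
  have htrans : ∀ g h : G, orderOf g = orderOf h → ∃ α : MulAut G, α g = h := by
    intro g h hgh
    rcases hcases g with hg | ⟨α, hg⟩ | ⟨α, hg⟩
    · refine ⟨1, ?_⟩
      rw [hg, orderOf_one] at hgh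
      rw [hg, orderOf_eq_one_iff.1 hgh.symm]
      rfl
    · rcases hcases h with hh | ⟨β, hh⟩ | ⟨β, hh⟩
      · exfalso
        rw [hh, orderOf_one, ← hg, MulEquiv.orderOf_eq, ha] at hgh
        exact hr.one_lt.ne' hgh
      · exact ⟨β * α⁻¹, by rw [MulAut.mul_apply, ← hg, MulAut.inv_apply_self, hh]⟩
      · exfalso
        rw [← hg, ← hh, MulEquiv.orderOf_eq, MulEquiv.orderOf_eq, ha, hb] at hgh
        exact hsr hgh.symm
    · rcases hcases h with hh | ⟨β, hh⟩ | ⟨β, hh⟩
      · exfalso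
        rw [hh, orderOf_one, ← hg, MulEquiv.orderOf_eq, hb] at hgh
        exact hs.one_lt.ne' hgh
      · exfalso
        rw [← hg, ← hh, MulEquiv.orderOf_eq, MulEquiv.orderOf_eq, ha, hb] at hgh
        exact hsr hgh
      · exact ⟨β * α⁻¹, by rw [MulAut.mul_apply, ← hg, MulAut.inv_apply_self, hh]⟩
  have hdiv : ∀ t : ℕ, t.Prime → t ∣ Nat.card G → t = r ∨ t = s := by
    intro t ht htd
    haveI : Fact t.Prime := ⟨ht⟩
    obtain ⟨g, hg⟩ := exists_prime_orderOf_dvd_card' (G := G) t htd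
    rcases hall g with h | h | h
    · rw [hg] at h; exact absurd h ht.one_lt.ne'
    · left; rw [← hg, h]
    · right; rw [← hg, h]
  haveI : Group.IsSolvable G := S0144.aux r s hr hs (Nat.card G) G rfl hdiv
  haveI : Nontrivial G := by
    rw [← Finite.one_lt_card_iff_nontrivial]
    omega
  obtain ⟨K, t, i, hKn, ht, hi, hKcard, -⟩ := exists_normal_exponent_p' (G := G)
  haveI := hKn
  haveI : Fact t.Prime := ⟨ht⟩
  have hKp : IsPGroup t K := IsPGroup.of_card hKcard
  have hK1 : K ≠ ⊥ := by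
    intro h
    rw [h, Subgroup.card_bot] at hKcard
    have := Nat.one_lt_pow (by omega : i ≠ 0) ht.one_lt
    omega
  have htd : t ∣ Nat.card G := by
    have h1 : t ∣ Nat.card K := by rw [hKcard]; exact dvd_pow_self t (by omega)
    exact h1.trans (Subgroup.card_subgroup_dvd_card K)
  rcases hdiv t ht htd with rfl | rfl
  · refine ⟨t, s, inferInstance, inferInstance, hsr.symm, hall, htrans, fun S => ?_⟩
    exact forward_core t s hsr.symm hall htrans hdiv hsd K hKp hK1 S
  · refine ⟨t, r, inferInstance, inferInstance, hsr, fun g => ?_, htrans, fun S => ?_⟩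
    · rcases hall g with h | h | h
      · exact Or.inl h
      · exact Or.inr (Or.inr h)
      · exact Or.inr (Or.inl h)
    · refine forward_core t r hsr (fun g => ?_) htrans (fun u hu hud => (hdiv u hu hud).symm) hrd
        K hKp hK1 S
      rcases hall g with h | h | h
      · exact Or.inl h
      · exact Or.inr (Or.inr h)
      · exact Or.inr (Or.inl h)

end Cfsg.Agent.Helper67.ThreeOrbit
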