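import Mathlib
import Cfsg.Agent.Lib.Helper67.ThreeOrbit.Cyclo

set_option autoImplicit false

namespace Cfsg.Agent.Helper67.ThreeOrbit

open Polynomial

theorem intertwine_aeval {R A : Type*} [CommRing R] [Ring A] [Algebra R A] (t a b : A)
    (h : t * a = b * t) (g : R[X]) : t * aeval a g = aeval b g * t := by
  induction g using Polynomial.induction_on with
  | C c => rw [aeval_C, aeval_C]; exact (Algebra.commutes c t).symm
  | add g₁ g₂ h₁ h₂ => rw [map_add, map_add, mul_add, add_mul, h₁, h₂]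
  | monomial n c ih =>
    have e1 : ∀ z : A, aeval z (C c * X ^ (n + 1) : R[X]) = aeval z (C c * X ^ n : R[X]) * z := by
      intro z
      rw [pow_succ, ← mul_assoc, map_mul (aeval z) (C c * X ^ n) X, aeval_X]
    rw [e1, e1, ← mul_assoc, ih, mul_assoc, h, mul_assoc]

theorem aeval_cyclotomic_eq_zero {V : Type*} [AddCommGroup V] (p q : ℕ) [hp : Fact p.Prime]
    [hq : Fact q.Prime] [Module (ZMod p) V] (f : Module.End (ZMod p) V) (hfq : f ^ q = 1)
    (hfpf : ∀ v, f v = v → v = 0) : aeval f (cyclotomic q (ZMod p)) = 0 := by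
  have h1 : aeval f ((X - 1) * cyclotomic q (ZMod p)) = 0 := by
    rw [mul_comm, cyclotomic_prime_mul_X_sub_one]
    simp [hfq]
  apply LinearMap.ext
  intro v
  have h2 : (f - 1) (aeval f (cyclotomic q (ZMod p)) v) = 0 := by
    have := congrArg (fun g : Module.End (ZMod p) V => g v) h1
    simpa [map_mul] using this
  have h3 : f (aeval f (cyclotomic q (ZMod p)) v) = aeval f (cyclotomic q (ZMod p)) v := by
    have : (f - 1) (aeval f (cyclotomic q (ZMod p)) v) =
        f (aeval f (cyclotomic q (ZMod p)) v) - aeval f (cyclotomic q (ZMod p)) v := rfl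
    rw [this, sub_eq_zero] at h2
    exact h2
  simpa using hfpf _ h3

theorem mod_orderOf_aux {V : Type*} [AddCommGroup V] [Finite V] [Nontrivial V] (p q : ℕ)
    [hp : Fact p.Prime] [hq : Fact q.Prime] [Module (ZMod p) V] (hpq : p ≠ q) (φ : V ≃+ V)
    (hφq : ∀ v, φ^[q] v = v) (hfpf : ∀ v, φ v = v → v = 0)
    (Ha : ∀ k : ℕ, ¬ q ∣ k → ∃ T : V ≃+ V, ∀ v, T (φ v) = φ^[k] (T v))
    (Hb : ∀ y y' : V, y ≠ 0 → y' ≠ 0 →
      ∃ (T : V ≃+ V) (k : ℕ), (∀ v, T (φ v) = φ^[k] (T v)) ∧ T y = y') :
    orderOf (p : ZMod q) = q - 1 := by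
  classical
  let f : Module.End (ZMod p) V := φ.toAddMonoidHom.toZModLinearMap p
  have hf : ∀ v, f v = φ v := fun v => rfl
  have hfpow : ∀ (n : ℕ) v, (f ^ n) v = φ^[n] v := by
    intro n v
    rw [Module.End.pow_apply]
    rfl
  have hfq : f ^ q = 1 := LinearMap.ext fun v => by rw [hfpow, hφq]; rfl
  have hcyc := aeval_cyclotomic_eq_zero p q f hfq (fun v hv => hfpf v hv)
  have hint : IsIntegral (ZMod p) f := ⟨cyclotomic q (ZMod p), cyclotomic.monic q _, hcyc⟩
  set μ := minpoly (ZMod p) f with hμ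
  have hμdvd : μ ∣ cyclotomic q (ZMod p) := minpoly.dvd _ _ hcyc
  have hμ0 : aeval f μ = 0 := minpoly.aeval _ _
  have hμne : μ ≠ 0 := minpoly.ne_zero hint
  -- intertwining in polynomial form
  have hinter : ∀ (T : V ≃+ V) (k : ℕ), (∀ v, T (φ v) = φ^[k] (T v)) →
      ∀ (g : (ZMod p)[X]) (v : V), T (aeval f g v) = aeval f (g.comp (X ^ k)) (T v) := by
    intro T k hT g v
    let T' : Module.End (ZMod p) V := T.toAddMonoidHom.toZModLinearMap p
    have h1 : T' * f = f ^ k * T' := LinearMap.ext fun v => by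
      change T (φ v) = (f ^ k) (T v)
      rw [hfpow]
      exact hT v
    have h2 := intertwine_aeval (R := ZMod p) T' f (f ^ k) h1 g
    have h3 := congrArg (fun e : Module.End (ZMod p) V => e v) h2
    rw [aeval_comp, map_pow, aeval_X]
    exact h3
  have hsep : (cyclotomic q (ZMod p)).Separable := by
    haveI : NeZero ((q : ℕ) : ZMod p) := ⟨by
      intro h0
      rw [ZMod.natCast_eq_zero_iff] at h0
      exact hpq ((Nat.prime_dvd_prime_iff_eq hp.1 hq.1).1 h0)⟩
    exact separable_cyclotomic q (ZMod p)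
  have hcop_zero : ∀ a b : (ZMod p)[X], IsCoprime a b → ∀ y : V, aeval f a y = 0 →
      aeval f b y = 0 → y = 0 := by
    intro a b ⟨u, w, huw⟩ y hay hby
    have := congrArg (fun g => aeval f g y) huw
    simp only [map_add, map_mul, map_one, LinearMap.add_apply, Module.End.mul_apply,
      Module.End.one_apply] at this
    rw [hay, hby, map_zero, map_zero, add_zero] at this
    exact this.symm
  have hker : ∀ a b : (ZMod p)[X], μ = a * b → ¬ IsUnit a → b ≠ 0 →
      ∃ y : V, y ≠ 0 ∧ aeval f a y = 0 := by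
    intro a b hab hau hbne
    by_contra hno
    push Not at hno
    have hb0 : aeval f b = 0 := by
      apply LinearMap.ext
      intro v
      by_contra hv
      apply hno _ hv
      have := congrArg (fun e : Module.End (ZMod p) V => e v) hμ0
      rw [hab, map_mul] at this
      exact this
    have hdvd : a * b ∣ b := by rw [← hab]; exact minpoly.dvd _ _ hb0
    apply hau
    obtain ⟨c, hc⟩ := hdvd
    have h1 : b * 1 = b * (a * c) := by
      rw [mul_one]
      conv_lhs => rw [hc]
      ring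
    have h2 := mul_left_cancel₀ hbne h1
    exact IsUnit.of_mul_eq_one c h2.symm
  have hirr : Irreducible μ := by
    refine ⟨minpoly.not_isUnit _ _, ?_⟩
    intro a b hab
    by_contra hcon
    push Not at hcon
    obtain ⟨hau, hbu⟩ := hcon
    have hcopab : IsCoprime a b := by
      have : (a * b).Separable := by rw [← hab]; exact hsep.of_dvd hμdvd
      exact this.isCoprime
    have hane : a ≠ 0 := by rintro rfl; rw [zero_mul] at hab; exact hμne hab
    have hbne : b ≠ 0 := by rintro rfl; rw [mul_zero] at hab; exact hμne hab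
    obtain ⟨y₁, hy₁, hay₁⟩ := hker a b hab hau hbne
    obtain ⟨y₂, hy₂, hby₂⟩ := hker b a (by rw [hab, mul_comm]) hbu hane
    have hy' : y₁ + y₂ ≠ 0 := by
      intro h0
      have : y₂ = - y₁ := (eq_neg_of_add_eq_zero_right h0)
      apply hy₂
      apply hcop_zero a b hcopab y₂ _ hby₂
      rw [this, map_neg, hay₁, neg_zero]
    obtain ⟨T, k, hT, hTy⟩ := Hb (y₁ + y₂) y₁ hy' hy₁
    let C : V → Set V := fun y => Set.range (fun g : (ZMod p)[X] => aeval f g y)
    have hsub1 : C y₁ ⊆ C (y₁ + y₂) := by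
      obtain ⟨u, w, huw⟩ := hcopab
      rintro _ ⟨g, rfl⟩
      refine ⟨g * (w * b), ?_⟩
      have e1 : aeval f (w * b) (y₁ + y₂) = y₁ := by
        have h1 : aeval f (w * b) y₂ = 0 := by
          rw [map_mul, Module.End.mul_apply, hby₂, map_zero]
        have h2 : aeval f (w * b) y₁ = y₁ := by
          have := congrArg (fun g => aeval f g y₁) huw
          simp only [map_add, map_mul, map_one, LinearMap.add_apply, Module.End.mul_apply,
            Module.End.one_apply] at this
          rw [hay₁, map_zero, zero_add] at this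
          rw [map_mul, Module.End.mul_apply]
          exact this
        rw [map_add, h1, h2, add_zero]
      simp only
      rw [map_mul (aeval f) g (w * b), Module.End.mul_apply, e1]
    have hmaps : Set.MapsTo T (C (y₁ + y₂)) (C y₁) := by
      rintro _ ⟨g, rfl⟩
      exact ⟨g.comp (X ^ k), by simp only; rw [hinter T k hT, hTy]⟩
    have hle : (C (y₁ + y₂)).ncard ≤ (C y₁).ncard :=
      Set.ncard_le_ncard_of_injOn T hmaps (T.injective.injOn) (Set.toFinite _)
    have heq : C y₁ = C (y₁ + y₂) := Set.eq_of_subset_of_ncard_le hsub1 hle (Set.toFinite _)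
    have hmem : y₁ + y₂ ∈ C y₁ := by
      rw [heq]
      exact ⟨1, by simp⟩
    obtain ⟨g, hg⟩ := hmem
    simp only at hg
    have ha' : aeval f a (y₁ + y₂) = 0 := by
      rw [← hg, ← Module.End.mul_apply, ← map_mul, mul_comm, map_mul, Module.End.mul_apply, hay₁,
        map_zero]
    have ha2 : aeval f a y₂ = 0 := by
      rw [map_add, hay₁, zero_add] at ha'
      exact ha'
    exact hy₂ (hcop_zero a b hcopab y₂ ha2 hby₂)
  have hB : ∀ k : ℕ, ¬ q ∣ k → μ ∣ μ.comp (X ^ k) := by
    intro k hk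
    obtain ⟨T, hT⟩ := Ha k hk
    apply minpoly.dvd
    apply LinearMap.ext
    intro v
    obtain ⟨u, rfl⟩ := T.surjective v
    rw [← hinter T k hT μ u, hμ0]
    simp
  haveI : Fact (Irreducible μ) := ⟨hirr⟩
  let L := AdjoinRoot μ
  let ζ : L := AdjoinRoot.root μ
  have hζμ : aeval ζ μ = 0 := by
    rw [aeval_def, AdjoinRoot.algebraMap_eq]
    exact AdjoinRoot.eval₂_root μ
  have hζk : ∀ k, ¬ q ∣ k → aeval (ζ ^ k) μ = 0 := by
    intro k hk
    obtain ⟨c, hc⟩ := hB k hk
    have : aeval ζ (μ.comp (X ^ k)) = 0 := by rw [hc, map_mul, hζμ, zero_mul]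
    rw [aeval_comp, map_pow, aeval_X] at this
    exact this
  have hprim : IsPrimitiveRoot ζ q := by
    haveI : NeZero ((q : ℕ) : ZMod p) := ⟨by
      intro h0
      rw [ZMod.natCast_eq_zero_iff] at h0
      exact hpq ((Nat.prime_dvd_prime_iff_eq hp.1 hq.1).1 h0)⟩
    haveI : NeZero ((q : ℕ) : L) :=
      NeZero.nat_of_injective (algebraMap (ZMod p) L).injective
    rw [← isRoot_cyclotomic_iff, IsRoot.def, ← map_cyclotomic q (algebraMap (ZMod p) L), eval_map,
      ← aeval_def]
    obtain ⟨c, hc⟩ := hμdvd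
    rw [hc, map_mul, hζμ, zero_mul]
  have hdeg : q - 1 ≤ μ.natDegree := by
    let S : Finset L := (Finset.Icc 1 (q - 1)).image (fun k => ζ ^ k)
    have hScard : S.card = q - 1 := by
      rw [Finset.card_image_of_injOn, Nat.card_Icc]
      · omega
      · intro i hi j hj hij
        simp only [Finset.coe_Icc, Set.mem_Icc] at hi hj
        have hq2 := hq.1.two_le
        exact hprim.pow_inj (by omega) (by omega) hij
    have hmapne : μ.map (algebraMap (ZMod p) L) ≠ 0 :=
      (Polynomial.map_ne_zero_iff (algebraMap (ZMod p) L).injective).2 hμne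
    have hSsub : S ⊆ (μ.map (algebraMap (ZMod p) L)).roots.toFinset := by
      intro z hz
      obtain ⟨k, hk, rfl⟩ := Finset.mem_image.1 hz
      rw [Multiset.mem_toFinset, mem_roots hmapne, IsRoot.def, eval_map, ← aeval_def]
      apply hζk
      intro hqk
      have := Nat.le_of_dvd (by simp only [Finset.mem_Icc] at hk; omega) hqk
      simp only [Finset.mem_Icc] at hk
      have hq2 := hq.1.two_le
      omega
    calc q - 1 = S.card := hScard.symm
      _ ≤ (μ.map (algebraMap (ZMod p) L)).roots.toFinset.card := Finset.card_le_card hSsub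
      _ ≤ Multiset.card (μ.map (algebraMap (ZMod p) L)).roots := Multiset.toFinset_card_le _
      _ ≤ (μ.map (algebraMap (ZMod p) L)).natDegree := card_roots' _
      _ = μ.natDegree := natDegree_map _
  have hnd := natDegree_of_irreducible_dvd_cyclotomic p q hpq μ hirr hμdvd
  have hp0 : (p : ZMod q) ≠ 0 := by
    intro h0
    rw [ZMod.natCast_eq_zero_iff] at h0
    exact hpq ((Nat.prime_dvd_prime_iff_eq hq.1 hp.1).1 h0).symm
  have hle : orderOf (p : ZMod q) ≤ q - 1 := by
    apply Nat.le_of_dvd (by have := hq.1.two_le; omega)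
    exact orderOf_dvd_of_pow_eq_one (ZMod.pow_card_sub_one_eq_one hp0)
  omega

theorem mod_orderOf {V : Type*} [AddCommGroup V] [Finite V] [Nontrivial V] (p q : ℕ)
    [hp : Fact p.Prime] [hq : Fact q.Prime] (hpq : p ≠ q) (hV : ∀ v : V, p • v = 0) (φ : V ≃+ V)
    (hφq : ∀ v, φ^[q] v = v) (hfpf : ∀ v, φ v = v → v = 0)
    (Ha : ∀ k : ℕ, ¬ q ∣ k → ∃ T : V ≃+ V, ∀ v, T (φ v) = φ^[k] (T v))
    (Hb : ∀ y y' : V, y ≠ 0 → y' ≠ 0 →
      ∃ (T : V ≃+ V) (k : ℕ), (∀ v, T (φ v) = φ^[k] (T v)) ∧ T y = y') :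
    orderOf (p : ZMod q) = q - 1 :=
  @mod_orderOf_aux V _ _ _ p q hp hq (AddCommGroup.zmodModule hV) hpq φ hφq hfpf Ha Hb

end Cfsg.Agent.Helper67.ThreeOrbit
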