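import Mathlib
import Cfsg.Agent.Lib.Helper67.ThreeOrbit.Forward2
import Cfsg.Agent.Lib.Helper67.ThreeOrbit.Backward

set_option autoImplicit false

namespace Cfsg.Agent.Helper67.ThreeOrbit

open Subgroup

/-- multiplicative version of `mod_orderOf` -/
theorem mod_orderOf_mul {A : Type*} [Group A] [Finite A] [Nontrivial A]
    (hcomm : ∀ a b : A, a * b = b * a)
    (p q : ℕ) [hp : Fact p.Prime] [hq : Fact q.Prime] (hpq : p ≠ q) (hA : ∀ a : A, a ^ p = 1)
    (φ : A ≃* A) (hφq : ∀ a, φ^[q] a = a) (hfpf : ∀ a, φ a = a → a = 1)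
    (Ha : ∀ k : ℕ, ¬ q ∣ k → ∃ T : A ≃* A, ∀ v, T (φ v) = φ^[k] (T v))
    (Hb : ∀ y y' : A, y ≠ 1 → y' ≠ 1 →
      ∃ (T : A ≃* A) (k : ℕ), (∀ v, T (φ v) = φ^[k] (T v)) ∧ T y = y') :
    orderOf (p : ZMod q) = q - 1 := by
  letI : CommGroup A := { (inferInstance : Group A) with mul_comm := hcomm }
  have hiter : ∀ (n : ℕ) (v : Additive A),
      (MulEquiv.toAdditive φ)^[n] v = Additive.ofMul (φ^[n] (Additive.toMul v)) := by
    intro n
    induction n with
    | zero => intro v; rfl
    | succ n ih =>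
      intro v
      rw [Function.iterate_succ_apply', Function.iterate_succ_apply', ih]
      rfl
  haveI : Nontrivial (Additive A) := inferInstanceAs (Nontrivial A)
  refine mod_orderOf (V := Additive A) p q hpq
    (fun v => by
      change Additive.ofMul ((Additive.toMul v) ^ p) = 0
      rw [hA]; rfl)
    (MulEquiv.toAdditive φ)
    (fun v => by rw [hiter, hφq]; rfl)
    (fun v hv => by
      have := hfpf (Additive.toMul v) hv
      exact this) ?_ ?_
  · intro k hk
    obtain ⟨T, hT⟩ := Ha k hk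
    refine ⟨MulEquiv.toAdditive T, fun v => ?_⟩
    rw [hiter]
    exact congrArg Additive.ofMul (hT (Additive.toMul v))
  · intro y y' hy hy'
    obtain ⟨T, k, hT, hTy⟩ := Hb (Additive.toMul y) (Additive.toMul y') hy hy'
    refine ⟨MulEquiv.toAdditive T, k, fun v => ?_, ?_⟩
    · rw [hiter]
      exact congrArg Additive.ofMul (hT (Additive.toMul v))
    · exact congrArg Additive.ofMul hTy

theorem card_sylow_of_card {G : Type*} [Group G] [Finite G] (p q n : ℕ) [hp : Fact p.Prime]
    [hq : Fact q.Prime] (hpq : p ≠ q) (hcard : Nat.card G = p ^ n * q) (S : Sylow p G) :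
    Nat.card (S : Subgroup G) = p ^ n := by
  rw [Sylow.card_eq_multiplicity, hcard,
    Nat.factorization_mul (pow_ne_zero _ hp.1.ne_zero) hq.1.ne_zero,
    Nat.Prime.factorization_pow hp.1, Nat.Prime.factorization hq.1]
  simp [hpq.symm]

theorem forward_primitive {G : Type*} [Group G] [Finite G] (p q n : ℕ) [hp : Fact p.Prime]
    [hq : Fact q.Prime] (hpq : p ≠ q)
    (htrans : ∀ g h : G, orderOf g = orderOf h → ∃ α : MulAut G, α g = h)
    (P : Subgroup G) (hPcard : Nat.card P = p ^ n)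
    (hSmem : ∀ g : G, g ∈ P ↔ orderOf g = 1 ∨ orderOf g = p) [hPn : P.Normal]
    (hPcomm : ∀ a b : ↥P, a * b = b * a) (hPexp : ∀ a ∈ P, a ^ p = 1)
    (a : G) (ha : orderOf a = p) (x : G) (hx : orderOf x = q)
    (hfpf : ∀ x y : G, orderOf x = q → orderOf y = p → x * y * x⁻¹ ≠ y)
    (hcard : Nat.card G = p ^ n * q) : orderOf (p : ZMod q) = q - 1 := by
  classical
  have hcop : Nat.Coprime p q := (Nat.coprime_primes hp.1 hq.1).2 hpq
  have hc : P.IsComplement' (zpowers x) := by
    apply Subgroup.isComplement'_of_coprime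
    · rw [Nat.card_zpowers, hx, hPcard, hcard]
    · rw [Nat.card_zpowers, hx, hPcard]
      exact Nat.Coprime.pow_left n hcop
  set φ : ↥P ≃* ↥P := MulAut.conjNormal x with hφ
  have hφapp : ∀ v : ↥P, ((φ v : ↥P) : G) = x * v * x⁻¹ := by
    intro v
    rw [hφ, MulAut.conjNormal_apply]
  have hφiter : ∀ (i : ℕ) (v : ↥P), ((φ^[i] v : ↥P) : G) = x ^ i * v * (x ^ i)⁻¹ := by
    intro i v
    exact conjNormal_iterate P x i v
  have hφq : ∀ v : ↥P, φ^[q] v = v := by
    intro v
    apply Subtype.ext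
    rw [hφiter, ← hx, pow_orderOf_eq_one]
    simp
  have hord1 : ∀ w : ↥P, w ≠ 1 → orderOf (w : G) = p := by
    intro w hw1
    rcases (hSmem w).1 w.2 with h1 | h1
    · exfalso
      apply hw1
      apply Subtype.ext
      exact orderOf_eq_one_iff.1 h1
    · exact h1
  have hfpf' : ∀ v : ↥P, φ v = v → v = 1 := by
    intro v hv
    by_contra hv1
    apply hfpf x v hx (hord1 v hv1)
    have := congrArg (fun u : ↥P => (u : G)) hv
    rw [← hφapp]
    exact this
  haveI : Nontrivial ↥P := by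
    refine ⟨⟨⟨a, (hSmem a).2 (Or.inr ha)⟩, 1, fun h => ?_⟩⟩
    have h1 : a = 1 := congrArg (fun u : ↥P => (u : G)) h
    rw [h1, orderOf_one] at ha
    exact hp.1.one_lt.ne ha
  -- restriction of automorphisms
  have hrestr : ∀ α : MulAut G, ∃ T : ↥P ≃* ↥P, ∀ v : ↥P, ((T v : ↥P) : G) = α v := by
    intro α
    have hmem : ∀ (β : MulAut G) (g : G), g ∈ P → β g ∈ P := by
      intro β g hg
      rw [hSmem, MulEquiv.orderOf_eq]
      exact (hSmem g).1 hg
    refine ⟨{ toFun := fun v => ⟨α (v : G), hmem α v v.2⟩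
              invFun := fun v => ⟨α.symm (v : G), hmem α.symm v v.2⟩
              left_inv := fun v => Subtype.ext (α.symm_apply_apply (v : G))
              right_inv := fun v => Subtype.ext (α.apply_symm_apply (v : G))
              map_mul' := fun u v => Subtype.ext (map_mul α (u : G) (v : G)) }, fun v => rfl⟩
  apply mod_orderOf_mul (A := ↥P) hPcomm p q hpq
    (fun v => Subtype.ext (by rw [Subgroup.coe_pow]; exact hPexp v v.2)) φ hφq hfpf'
  · intro k hk
    have hcopk : (orderOf x).Coprime k := by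
      rw [hx]; exact (Nat.Prime.coprime_iff_not_dvd hq.1).2 hk
    have hxk : orderOf (x ^ k) = orderOf x := Nat.Coprime.orderOf_pow hcopk
    obtain ⟨α, hα⟩ := htrans x (x ^ k) hxk.symm
    obtain ⟨T, hT⟩ := hrestr α
    refine ⟨T, fun v => ?_⟩
    apply Subtype.ext
    rw [hT, hφiter, hφapp, hT, map_mul, map_mul, map_inv, hα]
  · intro y y' hy hy'
    obtain ⟨α, hα⟩ := htrans (y : G) (y' : G) ((hord1 y hy).trans (hord1 y' hy').symm)
    obtain ⟨T, hT⟩ := hrestr α
    obtain ⟨⟨u, h⟩, huh, -⟩ := hc.existsUnique (α x)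
    obtain ⟨k, hk⟩ := mem_powers_iff_mem_zpowers.2 h.2
    have hk' : (h : G) = x ^ k := hk.symm
    simp only at huh
    refine ⟨T, k, fun v => ?_, ?_⟩
    · apply Subtype.ext
      rw [hT, hφiter, hφapp, hT, map_mul, map_mul, map_inv, ← huh, hk']
      set w : ↥P := ⟨x ^ k * α v * (x ^ k)⁻¹, hPn.conj_mem _ (by rw [← hT]; exact (T v).2) (x ^ k)⟩
        with hw
      have h1 : (u : G) * (w : G) = (w : G) * (u : G) :=
        congrArg (fun z : ↥P => (z : G)) (hPcomm u w)
      have h2 : (w : G) = x ^ k * α v * (x ^ k)⁻¹ := rfl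
      rw [← h2]
      calc (u : G) * x ^ k * α v * ((u : G) * x ^ k)⁻¹
          = (u : G) * (x ^ k * α v * (x ^ k)⁻¹) * (u : G)⁻¹ := by
            simp only [mul_inv_rev, mul_assoc]
        _ = (u : G) * (w : G) * (u : G)⁻¹ := by rw [h2]
        _ = (w : G) := by rw [h1, mul_assoc, mul_inv_cancel, mul_one]
    · apply Subtype.ext
      rw [hT, hα]

end Cfsg.Agent.Helper67.ThreeOrbit
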